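import Cfsg.Agent.LyCert.Group
import Cfsg.Agent.LyCert.Data.Entry
import Cfsg.Agent.LyCert.Data.Rel0
import Cfsg.Agent.LyCert.Data.Rel1
import Cfsg.Agent.LyCert.Data.Rel2
import Cfsg.Agent.LyCert.Data.Rel3

/-! The action of `G₂(5)` on 19530 points by the table. -/

set_option autoImplicit false
set_option maxRecDepth 100000

namespace CfsgLib.LyCert

open CfsgLib.CosetEnum CfsgLib.LyG2

/-- The points. -/
abbrev Pt : Type := Fin 19530

theorem img_spec {x : ℕ} (hx : x < 16) (i : Pt) : img x i < 19530 ∧ img (iv x) (img x i) = i := by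
  have h := allR_spec 15 0 (entry_ok x hx) i (Nat.zero_le _) (by omega)
  rw [okEntry, show Nat.blt (i : ℕ) 19530 = true from Nat.ble_eq_true_of_le i.isLt, cond_true,
    force_eq, Bool.and_eq_true] at h
  exact ⟨Nat.le_of_ble_eq_true h.1, Nat.eq_of_beq_eq_true h.2⟩

theorem iv_iv {x : ℕ} (hx : x < 16) : iv (iv x) = x := by interval_cases x <;> decide

/-- The permutation of a letter, acting from the right. -/
noncomputable def letPerm (x : ℕ) : Equiv.Perm Pt :=
  if hx : x < 16 then
    { toFun := fun i => ⟨img (iv x) i, (img_spec (iv_lt hx) i).1⟩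
      invFun := fun i => ⟨img x i, (img_spec hx i).1⟩
      left_inv := fun i => Fin.ext (by
        have h := (img_spec (iv_lt hx) i).2
        rwa [iv_iv hx] at h)
      right_inv := fun i => Fin.ext (img_spec hx i).2 }
  else 1

theorem letPerm_inv_apply {x : ℕ} (hx : x < 16) (i : Pt) : ((letPerm x)⁻¹ i).val = img x i := by
  rw [letPerm, dif_pos hx]; rfl

theorem letPerm_iv {x : ℕ} (hx : x < 16) : letPerm (iv x) = (letPerm x)⁻¹ := by
  refine Equiv.ext fun i => Fin.ext ?_
  rw [letPerm_inv_apply hx i, letPerm, dif_pos (iv_lt hx)]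
  show img (iv (iv x)) i = img x i
  rw [iv_iv hx]

theorem prodw_letPerm_inv : ∀ (w : List ℕ), (∀ x ∈ w, x < 16) → ∀ i : Pt,
    ((prodw letPerm w)⁻¹ i).val = walk w i
  | [], _, i => by rw [prodw_nil, inv_one, Equiv.Perm.one_apply, walk_nil]
  | x :: w, hw, i => by
    rw [prodw_cons, mul_inv_rev, Equiv.Perm.mul_apply,
      prodw_letPerm_inv w (fun y hy => hw y (List.mem_cons_of_mem x hy)),
      letPerm_inv_apply (hw x List.mem_cons_self), walk_cons]

theorem rel_ok : ∀ r < 46, allR (okRel r) 15 0 = true := by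
  intro r hr
  interval_cases r
  exacts [rel0, rel1, rel2, rel3, rel4, rel5, rel6, rel7, rel8, rel9, rel10, rel11, rel12, rel13,
    rel14, rel15, rel16, rel17, rel18, rel19, rel20, rel21, rel22, rel23, rel24, rel25, rel26,
    rel27, rel28, rel29, rel30, rel31, rel32, rel33, rel34, rel35, rel36, rel37, rel38, rel39,
    rel40, rel41, rel42, rel43, rel44, rel45]

theorem lv_letPerm {x : ℕ} (hx : x < 16) :
    lv (fun i => letPerm (2 * i)) x = letPerm x := by
  rcases Nat.even_or_odd' x with ⟨i, rfl | rfl⟩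
  · rw [lv_eq, if_pos (by omega), show 2 * i / 2 = i by omega]
  · rw [lv_eq, if_neg (by omega), show (2 * i + 1) / 2 = i by omega, ← letPerm_iv (by omega), iv_even]

theorem act_rels : ∀ r ∈ relSet, FreeGroup.lift (fun i : Fin 8 => letPerm (2 * i.val)) r = 1 := by
  rintro _ ⟨w, hw, rfl⟩
  obtain ⟨j, hj, rfl⟩ := List.getElem_of_mem hw
  have hlt : ∀ x ∈ rwords[j], x < 16 := lt_of_low
    (List.all_eq_true.1 G14.rwords_lt _ (List.getElem_mem hj))
  have h1 : prodw letPerm rwords[j] = 1 := by
    rw [← inv_eq_one]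
    refine Equiv.ext fun i => Fin.ext ?_
    rw [prodw_letPerm_inv _ hlt i, Equiv.Perm.one_apply]
    have h := allR_spec 15 0 (rel_ok j hj) i (Nat.zero_le _) (by omega)
    rw [okRel, show Nat.blt (i : ℕ) 19530 = true from Nat.ble_eq_true_of_le i.isLt, cond_true,
      List.getD_eq_getElem _ _ hj] at h
    exact Nat.eq_of_beq_eq_true h
  rw [← h1]
  simp only [prodw, map_list_prod, List.map_map]
  refine congrArg List.prod (List.map_congr_left fun x hx => ?_)
  show FreeGroup.lift _ (fl x) = letPerm x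
  rw [fl, map_lv, ← lv_letPerm (hlt x hx)]
  simp only [FreeGroup.lift_apply_of, lv_eq, Fin.val_ofNat,
    show x / 2 % 8 = x / 2 by have := hlt x hx; omega]

/-- The action. -/
noncomputable def act : P →* Equiv.Perm Pt := PresentedGroup.toGroup act_rels

theorem act_pl {x : ℕ} (hx : x < 16) : act (pl x) = letPerm x := by
  rw [pl, map_lv, ← lv_letPerm hx]
  simp only [act, PresentedGroup.toGroup.of, lv_eq, Fin.val_ofNat, show x / 2 % 8 = x / 2 by omega]

theorem act_word {w : List ℕ} (hw : ∀ x ∈ w, x < 16) (i : Pt) :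
    ((act (prodw pl w))⁻¹ i).val = walk w i := by
  rw [← prodw_letPerm_inv w hw i]
  congr 3
  simp only [prodw, map_list_prod, List.map_map]
  exact congrArg List.prod (List.map_congr_left fun x hx => act_pl (hw x hx))

/-- The point of a left coset of the stabiliser of `0`. -/
noncomputable def pt (g : P) : Pt := act g 0

theorem pt_word {w : List ℕ} (hw : ∀ x ∈ w, x < 16) : (pt (prodw pl w)).val = walk (wi w) 0 := by
  rw [show (0 : ℕ) = ((0 : Pt) : ℕ) from rfl, ← act_word (wi_low hw), prodw_pl_wi hw, map_inv, inv_inv]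
  rfl

theorem pt_mul (g h : P) : pt (g * h) = act g (pt h) := by
  rw [pt, pt, map_mul, Equiv.Perm.mul_apply]

end CfsgLib.LyCert
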