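import Cfsg.Agent.LyCert.Group
import Cfsg.Agent.LyCert.Data.Items

/-!
A calculus of facts `H rᵢ h z = H rⱼ h2` and `H rᵢ h = H rᵢ` on right cosets of `G₂(5)` in `Ly`.
-/

set_option autoImplicit false
set_option maxRecDepth 100000

namespace CfsgLib.LyCert

open CfsgLib.CosetEnum CfsgLib.LyG2 Cfsg.Spor

/-- Two elements in one right coset. -/
def Same (x y : Cfsg.Spor.Ly) : Prop := x * y⁻¹ ∈ Hs

theorem Same.refl (x : Cfsg.Spor.Ly) : Same x x := by simp [Same, Hs.one_mem]

theorem Same.symm {x y : Cfsg.Spor.Ly} (h : Same x y) : Same y x := by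
  simpa [Same] using Hs.inv_mem h

theorem Same.trans {x y w : Cfsg.Spor.Ly} (h1 : Same x y) (h2 : Same y w) : Same x w := by
  simpa [Same, mul_assoc] using Hs.mul_mem h1 h2

theorem Same.mul_right {x y : Cfsg.Spor.Ly} (h : Same x y) (w : Cfsg.Spor.Ly) :
    Same (x * w) (y * w) := by
  simpa [Same, mul_assoc] using h

/-- The representative of a double coset. -/
def repv (i : ℕ) : Cfsg.Spor.Ly := prodw gw (reps.getD i [])

theorem repv_zero : repv 0 = 1 := rfl

/-- A translate of a representative. -/
def pos (i : ℕ) (g : List ℕ) : Cfsg.Spor.Ly := repv i * prodw gw g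

theorem pos_append (i : ℕ) (g w : List ℕ) : pos i (g ++ w) = pos i g * prodw gw w := by
  rw [pos, pos, prodw_append, mul_assoc]

/-- The element `z`. -/
abbrev zz : Cfsg.Spor.Ly := gw 16

theorem gw_zinv : gw 17 = zz⁻¹ := gw_iv (x := 16) (by norm_num)

theorem zinv_eq : zz⁻¹ = zz * prodw gw [1, 1] ∧ zz⁻¹ = prodw gw [1, 1] * zz := by
  have h : prodw gw [16, 16, 1, 1] = 1 := relPairs_one (p := (80, _)) (by decide +kernel)
  simp only [prodw_cons, prodw_nil, mul_one] at h ⊢
  have e : zz⁻¹ = zz * (gw 1 * gw 1) := inv_eq_of_mul_eq_one_right h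
  refine ⟨e, ?_⟩
  have : gw 1 * gw 1 = (zz * zz)⁻¹ := eq_inv_of_mul_eq_one_right (by rw [mul_assoc]; exact h)
  rw [this]
  group

/-- Replace `z⁻¹` by `z u⁻¹` or by `u⁻¹ z`. -/
def expW (e : Bool) : List ℕ → List ℕ
  | [] => []
  | x :: w => (bif Nat.beq x 17 then (bif e then [1, 1, 16] else [16, 1, 1]) else [x]) ++ expW e w

theorem prodw_expW (e : Bool) : ∀ w, prodw gw (expW e w) = prodw gw w
  | [] => rfl
  | x :: w => by
    rw [expW, prodw_append, prodw_expW e w, prodw_cons]
    congr 1
    cases hx : Nat.beq x 17
    · simp [prodw]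
    · rw [Nat.eq_of_beq_eq_true hx, gw_zinv]
      obtain ⟨h1, h2⟩ := zinv_eq
      simp only [prodw_cons, prodw_nil, mul_one] at h1 h2
      cases e
      · simp only [cond_true, cond_false, prodw_cons, prodw_nil, mul_one]
        exact h1.symm
      · simp only [cond_true, prodw_cons, prodw_nil, mul_one, ← mul_assoc]
        exact h2.symm

/-- The relators, expanded. -/
def baseRel (ri : ℕ) : List ℕ :=
  expW (Nat.beq ri 3 || Nat.beq ri 4) ((zrels.getD ri (80, [])).2)

/-- A rotation of a relator or of its inverse. -/
def relW (r : ℕ) : List ℕ :=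
  let b := baseRel (r % 16 / 2)
  let v := bif Nat.beq (r % 2) 1 then expW false (wi b) else b
  v.drop (r / 16) ++ v.take (r / 16)

theorem baseRel_lt : ∀ ri < 8, ∀ x ∈ baseRel ri, x < 18 := by decide +kernel

theorem prodw_baseRel (ri : ℕ) : prodw gw (baseRel ri) = 1 := by
  rw [baseRel, prodw_expW]
  by_cases h : ri < zrels.length
  · rw [List.getD_eq_getElem _ _ h]
    exact relPairs_one (List.mem_append_left _ (List.getElem_mem h))
  · rw [List.getD_eq_default _ _ (Nat.le_of_not_lt h)]; rfl

theorem prodw_relW (r : ℕ) : prodw gw (relW r) = 1 := by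
  unfold relW
  set b := baseRel (r % 16 / 2) with hb
  set v := (bif Nat.beq (r % 2) 1 then expW false (wi b) else b) with hv
  have hv1 : prodw gw v = 1 := by
    rw [hv]
    cases Nat.beq (r % 2) 1
    · exact prodw_baseRel _
    · rw [cond_true, prodw_expW, prodw_gw_wi (baseRel_lt _ (by omega)), prodw_baseRel, inv_one]
  show prodw gw (v.drop (r / 16) ++ v.take (r / 16)) = 1
  rw [prodw_append]
  refine mul_eq_one_comm.mp ?_
  rw [← prodw_append, List.take_append_drop, hv1]

/-- The pieces of a word after the letters `16`. -/
def segsOf : List ℕ → List (List ℕ)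
  | [] => [[]]
  | x :: w => bif Nat.beq x 16 then [] :: segsOf w else (x :: (segsOf w).headD []) :: (segsOf w).tail

/-- Pieces preceded by `z`. -/
def cyc (ks : List (List ℕ)) : List ℕ := (ks.map fun k => 16 :: k).flatten

/-- The fact with a number. -/
def item (n : ℕ) : Item := items.getD n Item.nil

/-- Words of stabiliser elements. -/
def gensW (ws : List ℕ) : List ℕ := (ws.map fun k => (item k).h).flatten

/-- Words of moved elements. -/
def mWs (wm : List ℕ) : List ℕ := (wm.map mW).flatten

/-- Words of their images. -/
def mzWs (wm : List ℕ) : List ℕ := (wm.map mzW).flatten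

/-- Earlier stabiliser facts of one representative. -/
def okGens (n i : ℕ) (ws : List ℕ) : Bool :=
  ws.all fun k => Nat.blt k n && (!(item k).edge && Nat.beq (item k).i i)

/-- A step from a translate. -/
def okStep (n i : ℕ) (g : List ℕ) (s : Step) : Bool :=
  Nat.blt s.f n && ((item s.f).edge && (Nat.beq (item s.f).i i &&
    (okGens n i s.ws && eqW (gensW s.ws ++ g) ((item s.f).h ++ mWs s.wm))))

/-- Follow steps along the pieces of a relator. -/
def trace (n : ℕ) : List Step → List (List ℕ) → ℕ → List ℕ → Option (ℕ × List ℕ)
  | [], _, i, g => some (i, g)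
  | s :: ss, k :: ks, i, g =>
    bif okStep n i g s then trace n ss ks (item s.f).j ((item s.f).h2 ++ mzWs s.wm ++ k) else none
  | _ :: _, [], _, _ => none

/-- The check of a fact. -/
def check (n : ℕ) : Bool :=
  let it := item n
  bif Nat.beq it.how 0 then
    bif it.edge then decide (it.h2 = [] ∧ reps.getD it.j [] = reps.getD it.i [] ++ it.h ++ [16])
    else Nat.beq it.i 0 && low it.h
  else bif Nat.beq it.how 1 then
    let w := relW it.r
    let ks := segsOf w |>.tail
    decide (cyc ks = w) && match trace n it.steps ks it.j it.g with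
      | none => false
      | some (i', g') => Nat.beq i' it.i && (bif it.edge then
          decide (it.steps.length + 1 = ks.length) && (eqW g' it.h &&
            eqW it.h2 (it.g ++ wi (ks.getD it.steps.length [])))
        else decide (it.steps.length = ks.length) && (Nat.beq it.i it.j && eqW it.h (g' ++ wi it.g)))
  else bif Nat.beq it.how 2 then
    match it.steps with
    | [s] =>
      let F := item it.f
      !it.edge && (Nat.blt it.f n && (F.edge && (okGens n F.i it.ws &&
        (okStep n F.i (gensW it.ws ++ F.h ++ mWs it.wm) s && (Nat.beq (item s.f).j F.j &&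
          (Nat.beq it.i F.j &&
            eqW it.h ((item s.f).h2 ++ mzWs s.wm ++ wi (F.h2 ++ mzWs it.wm))))))))
    | _ => false
  else false

/-- What a fact says. -/
def Says (n : ℕ) : Prop :=
  if (item n).edge then Same (pos (item n).i (item n).h * zz) (pos (item n).j (item n).h2)
  else Same (pos (item n).i (item n).h) (repv (item n).i)

theorem zconj_m (wm : List ℕ) : prodw gw (mWs wm) * zz = zz * prodw gw (mzWs wm) := by
  induction wm with
  | nil => simp [mWs, mzWs, prodw]
  | cons k wm ih =>
    have e : prodw gw (mW k) * zz = zz * prodw gw (mzW k) := by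
      by_cases hk : k < 8
      · have h := relPairs_one (p := (72 + k, _))
          (List.mem_append_right _ (List.mem_map.2 ⟨k, List.mem_range.2 hk, rfl⟩))
        have hlt : ∀ x ∈ mzW k, x < 18 := by interval_cases k <;> decide +kernel
        rw [prodw_append, prodw_append, prodw_append] at h
        simp only [prodw_cons, prodw_nil, mul_one, gw_zinv] at h
        rw [show ((mzW k).map fun x => iv x).reverse = wi (mzW k) from rfl, prodw_gw_wi hlt,
          mul_inv_eq_one, mul_assoc, inv_mul_eq_iff_eq_mul] at h
        exact h
      · rw [mW, mzW, List.getD_eq_default _ _ (by simp [mGens]; omega),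
          List.getD_eq_default _ _ (by simp [mImgs]; omega)]
        simp [prodw]
    show prodw gw (mW k ++ mWs wm) * zz = zz * prodw gw (mzW k ++ mzWs wm)
    rw [prodw_append, prodw_append, mul_assoc, ih, ← mul_assoc, e, mul_assoc]

theorem gens_sound {n i : ℕ} (ih : ∀ f < n, Says f) {ws : List ℕ} (h : okGens n i ws = true) :
    Same (pos i (gensW ws)) (repv i) := by
  induction ws with
  | nil => simpa [pos, gensW, prodw] using Same.refl _
  | cons k ws iw =>
    simp only [okGens, List.all_cons, Bool.and_eq_true, Nat.blt_eq, Bool.not_eq_true'] at h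
    obtain ⟨⟨hk, he, hi⟩, hr⟩ := h
    have h1 := ih k hk
    rw [Says, if_neg (by simp [he]), Nat.eq_of_beq_eq_true hi] at h1
    show Same (pos i ((item k).h ++ gensW ws)) _
    rw [pos_append]
    refine (h1.mul_right _).trans ?_
    exact iw hr

theorem step_sound {n i : ℕ} {g : List ℕ} {s : Step} (ih : ∀ f < n, Says f)
    (h : okStep n i g s = true) :
    Same (pos i g * zz) (pos (item s.f).j ((item s.f).h2 ++ mzWs s.wm)) := by
  simp only [okStep, Bool.and_eq_true, Nat.blt_eq] at h
  obtain ⟨hf, he, hi, hg, hw⟩ := h
  have h1 := ih _ hf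
  rw [Says, if_pos he, Nat.eq_of_beq_eq_true hi] at h1
  have e := eqW_gw hw
  have h2 : Same (pos i g) (pos i ((item s.f).h ++ mWs s.wm)) := by
    have h3 := ((gens_sound ih hg).mul_right (prodw gw g)).symm
    rw [pos, mul_assoc, ← prodw_append, e] at h3
    exact h3
  refine (h2.mul_right zz).trans ?_
  rw [pos_append, pos_append, mul_assoc, zconj_m, ← mul_assoc]
  exact h1.mul_right _

theorem trace_sound {n : ℕ} (ih : ∀ f < n, Says f) : ∀ (ss : List Step) (ks : List (List ℕ))
    (i : ℕ) (g : List ℕ) (i' : ℕ) (g' : List ℕ), trace n ss ks i g = some (i', g') →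
      Same (pos i g * prodw gw (cyc (ks.take ss.length))) (pos i' g')
  | [], ks, i, g, i', g', h => by
    simp only [trace, Option.some.injEq, Prod.mk.injEq] at h
    obtain ⟨rfl, rfl⟩ := h
    simpa [cyc, prodw] using Same.refl _
  | s :: ss, [], i, g, i', g', h => by simp [trace] at h
  | s :: ss, k :: ks, i, g, i', g', h => by
    simp only [trace] at h
    cases hs : okStep n i g s
    · simp [hs] at h
    rw [hs, cond_true] at h
    have h1 := trace_sound ih ss ks _ _ _ _ h
    have h2 := (step_sound ih hs).mul_right (prodw gw k)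
    rw [show cyc (((k :: ks)).take (s :: ss).length) = [16] ++ k ++ cyc (ks.take ss.length) by simp [cyc],
      prodw_append, prodw_append, show prodw gw [16] = zz by simp [prodw]]
    rw [← pos_append] at h2
    refine Same.trans ?_ h1
    simpa [mul_assoc] using h2.mul_right (prodw gw (cyc (ks.take ss.length)))

theorem check_sound {n : ℕ} (ih : ∀ f < n, Says f) (h : check n = true) : Says n := by
  simp only [check] at h
  rw [Says]
  cases h0 : Nat.beq (item n).how 0
  swap
  · rw [h0, cond_true] at h
    cases he : (item n).edge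
    · rw [he, cond_false, Bool.and_eq_true] at h
      rw [if_neg (by simp), Nat.eq_of_beq_eq_true h.1]
      show pos 0 _ * (repv 0)⁻¹ ∈ Hs
      rw [pos, repv_zero, one_mul, inv_one, mul_one]
      exact prodw_mem h.2
    · rw [he, cond_true, decide_eq_true_eq] at h
      rw [if_pos rfl, pos, pos, repv, repv, h.1, h.2, prodw_append, prodw_append]
      simpa [prodw] using Same.refl _
  rw [h0, cond_false] at h
  cases h1 : Nat.beq (item n).how 1
  swap
  · rw [h1, cond_true, Bool.and_eq_true, decide_eq_true_eq] at h
    obtain ⟨hw, h⟩ := h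
    have hR := prodw_relW (item n).r
    revert h hw
    generalize (segsOf (relW (item n).r)).tail = ks
    intro hw h
    cases ht : trace n (item n).steps ks (item n).j (item n).g with
    | none => simp [ht] at h
    | some p =>
      obtain ⟨i', g'⟩ := p
      simp only [ht, Bool.and_eq_true] at h
      obtain ⟨hi, h⟩ := h
      have hs := trace_sound ih _ _ _ _ _ _ ht
      rw [Nat.eq_of_beq_eq_true hi] at hs
      cases he : (item n).edge
      · simp only [he, cond_false, Bool.and_eq_true, decide_eq_true_eq] at h
        obtain ⟨hl, hij, hh⟩ := h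
        rw [if_neg (by simp)]
        rw [hl, List.take_length, hw, hR, mul_one, ← Nat.eq_of_beq_eq_true hij] at hs
        have hlo := hh
        simp only [eqW, Bool.and_eq_true] at hlo
        have hg : ∀ x ∈ (item n).g, x < 18 := by
          intro x hx
          by_contra hc
          have hx' : iv x ∈ g' ++ wi (item n).g :=
            List.mem_append_right _ (List.mem_reverse.2 (List.mem_map_of_mem hx))
          have := lt_of_low hlo.2.1 _ hx'
          rcases Nat.even_or_odd' x with ⟨m, rfl | rfl⟩
          · rw [iv_even] at this; omega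
          · rw [iv_odd] at this; omega
        rw [pos, eqW_gw hh, prodw_append, prodw_gw_wi hg, ← mul_assoc]
        have h2 := (hs.mul_right (prodw gw (item n).g)⁻¹).symm
        simpa [pos, mul_assoc] using h2
      · simp only [he, cond_true, Bool.and_eq_true, decide_eq_true_eq] at h
        obtain ⟨hl, hh, hh2⟩ := h
        rw [if_pos rfl]
        have hsplit : ks = ks.take (item n).steps.length ++ [ks.getD (item n).steps.length []] := by
          rw [List.getD_eq_getElem _ _ (by omega), ← List.take_succ_eq_append_getElem (by omega),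
            hl, List.take_length]
        rw [hsplit] at hw
        simp only [cyc, List.map_append, List.flatten_append, List.map_cons, List.map_nil,
          List.flatten_cons, List.flatten_nil, List.append_nil] at hw
        rw [← hw, prodw_append, prodw_cons] at hR
        have e := eqW_gw hh
        have e2 := eqW_gw hh2
        have hlo := hh2
        simp only [eqW, Bool.and_eq_true] at hlo
        have hk : ∀ x ∈ ks.getD (item n).steps.length [], x < 18 := by
          intro x hx
          by_contra hc
          have hx' : iv x ∈ (item n).g ++ wi (ks.getD (item n).steps.length []) :=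
            List.mem_append_right _ (List.mem_reverse.2 (List.mem_map_of_mem hx))
          have := lt_of_low hlo.2.1 _ hx'
          rcases Nat.even_or_odd' x with ⟨m, rfl | rfl⟩
          · rw [iv_even] at this; omega
          · rw [iv_odd] at this; omega
        rw [pos, pos, ← e, e2, prodw_append, prodw_gw_wi hk]
        have h2 := (hs.mul_right zz).symm
        have hR' : prodw gw (cyc (ks.take (item n).steps.length)) * zz =
            (prodw gw (ks.getD (item n).steps.length []))⁻¹ :=
          eq_inv_of_mul_eq_one_left (by rw [mul_assoc]; exact hR)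
        rw [mul_assoc (pos _ _), hR'] at h2
        simpa [pos, mul_assoc] using h2
  rw [h1, cond_false] at h
  cases h2 : Nat.beq (item n).how 2
  · rw [h2, cond_false] at h; exact absurd h (by simp)
  rw [h2, cond_true] at h
  split at h
  next s hs =>
    simp only [Bool.and_eq_true, Nat.blt_eq, Bool.not_eq_true'] at h
    obtain ⟨he, hf, hfe, hg, hst, hj, hi, hh⟩ := h
    rw [if_neg (by simp [he]), Nat.eq_of_beq_eq_true hi]
    have hF := ih _ hf
    rw [Says, if_pos hfe] at hF
    set F := item (item n).f
    have ha := step_sound ih hst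
    rw [Nat.eq_of_beq_eq_true hj] at ha
    have hb : Same (pos F.i (gensW (item n).ws ++ F.h ++ mWs (item n).wm) * zz)
        (pos F.j (F.h2 ++ mzWs (item n).wm)) := by
      rw [List.append_assoc, pos_append]
      refine (((gens_sound ih hg).mul_right _).mul_right zz).trans ?_
      rw [prodw_append, ← mul_assoc (repv F.i), ← pos, mul_assoc, zconj_m, ← mul_assoc, pos_append]
      exact hF.mul_right _
    have hc := (ha.symm.trans hb).mul_right (prodw gw (F.h2 ++ mzWs (item n).wm))⁻¹
    have hlo := hh
    simp only [eqW, Bool.and_eq_true] at hlo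
    have hlt : ∀ x ∈ F.h2 ++ mzWs (item n).wm, x < 18 := by
      intro x hx
      by_contra hc
      have hx' : iv x ∈ (item s.f).h2 ++ mzWs s.wm ++ wi (F.h2 ++ mzWs (item n).wm) :=
        List.mem_append_right _ (List.mem_reverse.2 (List.mem_map_of_mem hx))
      have := lt_of_low hlo.2.1 _ hx'
      rcases Nat.even_or_odd' x with ⟨m, rfl | rfl⟩
      · rw [iv_even] at this; omega
      · rw [iv_odd] at this; omega
    rw [pos, eqW_gw hh, prodw_append _ _ (wi _), prodw_gw_wi hlt, ← mul_assoc, ← pos]
    refine hc.trans ?_
    simpa [pos, mul_assoc] using Same.refl _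
  next => exact absurd h (by simp)

end CfsgLib.LyCert
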