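import Cfsg.Agent.LyCert.Action
import Cfsg.Agent.LyCert.Data.Chains

/-! Lower bounds on subgroups of `G₂(5)` by chains of point stabilisers. -/

set_option autoImplicit false
set_option maxRecDepth 100000

namespace CfsgLib.LyCert

open CfsgLib.CosetEnum CfsgLib.LyG2 Subgroup

/-- An entry of a tree: the root, or a child of an earlier entry. -/
noncomputable def okNode (L : Level) (j : ℕ) : Bool :=
  let e := L.orb.getD j (0, 0, 0)
  bif Nat.beq j 0 then Nat.beq e.1 L.b
  else Nat.blt e.2.1 j && (Nat.blt e.2.2 L.gens.length &&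
    Nat.beq (walk (L.gens.getD e.2.2 []) (L.orb.getD e.2.1 (0, 0, 0)).1) e.1)

/-- The point at a place in the increasing order. -/
def ordPt (L : Level) (t : ℕ) : ℕ := (L.orb.getD (L.order.getD t 0) (0, 0, 0)).1

/-- A generator of the next step. -/
noncomputable def okNext (L : Level) (t : ℕ) : Bool :=
  let w := L.next.getD t []
  let ks := L.prods.getD t []
  ks.all (fun k => Nat.blt k L.gens.length) &&
    (eqW w (ks.map fun k => L.gens.getD k []).flatten && Nat.beq (walk w L.b) L.b)

/-- The check of a level. -/
noncomputable def okLevel (L : Level) : Bool :=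
  Nat.blt L.b 19530 && (L.gens.all low && (Nat.beq L.order.length L.orb.length &&
    ((List.range L.orb.length).all (okNode L) &&
      ((List.range L.order.length).all (fun t => Nat.blt (L.order.getD t 0) L.orb.length &&
          (Nat.beq t 0 || Nat.blt (ordPt L (t - 1)) (ordPt L t))) &&
        (List.range L.next.length).all (okNext L)))))

/-- The check of a chain. -/
noncomputable def okChain : List Level → List (List ℕ) → Bool
  | [], _ => true
  | L :: Ls, gs => decide (L.gens = gs) && (okLevel L && okChain Ls L.next)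

/-- The subgroup of a list of words. -/
def wGroup (gs : List (List ℕ)) : Subgroup P := closure {x | ∃ w ∈ gs, x = prodw pl w}

/-- The product of the orbit lengths. -/
def chainSize (Ls : List Level) : ℕ := (Ls.map fun L => L.orb.length).prod

theorem wGroup_mono {gs : List (List ℕ)} {w : List ℕ} (hw : w ∈ gs) : prodw pl w ∈ wGroup gs :=
  subset_closure ⟨w, hw, rfl⟩

theorem level_bound {L : Level} (h : okLevel L = true) :
    L.orb.length * Nat.card (wGroup L.next) ≤ Nat.card (wGroup L.gens) := by
  simp only [okLevel, Bool.and_eq_true, Nat.blt_eq] at h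
  obtain ⟨hb, hlow, hlen, hnode, hord, hnext⟩ := h
  have hlen := Nat.eq_of_beq_eq_true hlen
  let b : Pt := ⟨L.b, hb⟩
  have hgen : ∀ k < L.gens.length, prodw pl (L.gens.getD k []) ∈ wGroup L.gens ∧
      ∀ x ∈ L.gens.getD k [], x < 16 := fun k hk => by
    rw [List.getD_eq_getElem _ _ hk]
    exact ⟨wGroup_mono (List.getElem_mem hk), lt_of_low (List.all_eq_true.1 hlow _ (List.getElem_mem hk))⟩
  have hreach : ∀ j < L.orb.length, ∃ s ∈ wGroup L.gens,
      ((act s)⁻¹ b).val = (L.orb.getD j (0, 0, 0)).1 := by
    intro j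
    induction j using Nat.strong_induction_on with
    | _ j ih =>
      intro hj
      have h := List.all_eq_true.1 hnode j (List.mem_range.2 hj)
      simp only [okNode] at h
      cases h0 : Nat.beq j 0
      · simp only [h0, cond_false, Bool.and_eq_true, Nat.blt_eq] at h
        obtain ⟨hp, hk, hw⟩ := h
        obtain ⟨s, hs, hv⟩ := ih _ hp (lt_trans hp hj)
        obtain ⟨hm, hl⟩ := hgen _ hk
        refine ⟨s * prodw pl (L.gens.getD (L.orb.getD j (0, 0, 0)).2.2 []), mul_mem hs hm, ?_⟩
        rw [map_mul, mul_inv_rev, Equiv.Perm.mul_apply, act_word hl, hv]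
        exact Nat.eq_of_beq_eq_true hw
      · simp only [h0, cond_true] at h
        exact ⟨1, one_mem _, by simpa [b] using (Nat.eq_of_beq_eq_true h).symm⟩
  have hstab : ∀ y ∈ wGroup L.next, y ∈ wGroup L.gens ∧ (act y)⁻¹ b = b := by
    intro y hy
    induction hy using closure_induction with
    | mem y hy =>
      obtain ⟨w, hw, rfl⟩ := hy
      obtain ⟨t, ht, rfl⟩ := List.getElem_of_mem hw
      have h := List.all_eq_true.1 hnext t (List.mem_range.2 ht)
      simp only [okNext, List.getD_eq_getElem _ _ ht, Bool.and_eq_true] at h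
      obtain ⟨hks, he, hwb⟩ := h
      refine ⟨?_, Fin.ext ?_⟩
      · rw [eqW_pl he, prodw, List.map_flatten, List.map_map, List.prod_flatten, List.map_map]
        refine Subgroup.list_prod_mem _ ?_
        intro y hy
        obtain ⟨k, hk, rfl⟩ := List.mem_map.1 hy
        exact (hgen k (Nat.le_of_ble_eq_true (List.all_eq_true.1 hks k hk))).1
      · simp only [eqW, Bool.and_eq_true] at he
        rw [act_word (lt_of_low he.1)]
        exact Nat.eq_of_beq_eq_true hwb
    | one => exact ⟨one_mem _, by simp⟩
    | mul y y' _ _ h h' =>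
      exact ⟨mul_mem h.1 h'.1, by rw [map_mul, mul_inv_rev, Equiv.Perm.mul_apply, h.2, h'.2]⟩
    | inv y _ h =>
      refine ⟨inv_mem h.1, ?_⟩
      conv_lhs => rw [← h.2]
      simp
  choose σ hσ hv using fun t : Fin L.order.length =>
    hreach (L.order.getD t 0) (Nat.le_of_ble_eq_true
      (Bool.and_eq_true_iff.1 (List.all_eq_true.1 hord t (List.mem_range.2 t.isLt))).1)
  have hmono : StrictMono fun t : Fin L.order.length => ordPt L t := by
    have h1 : ∀ t, t + 1 < L.order.length → ordPt L t < ordPt L (t + 1) := by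
      intro t ht
      have h := (Bool.and_eq_true_iff.1 (List.all_eq_true.1 hord (t + 1) (List.mem_range.2 ht))).2
      simpa [Nat.blt_eq] using h
    rintro ⟨s, hs⟩ ⟨t, ht⟩ hst
    induction t with
    | zero => exact absurd (show s < 0 from hst) (Nat.not_lt_zero s)
    | succ t ih =>
      have hst' : s < t + 1 := hst
      rcases Nat.lt_succ_iff_lt_or_eq.1 hst' with h | h
      · exact lt_trans (ih (by omega) h) (h1 t ht)
      · subst h; exact h1 s ht
  let f : Fin L.order.length × wGroup L.next → wGroup L.gens := fun p =>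
    ⟨p.2.1 * σ p.1, mul_mem (hstab _ p.2.2).1 (hσ p.1)⟩
  have hf : Function.Injective f := by
    rintro ⟨t, y⟩ ⟨t', y'⟩ he
    have e := congrArg (fun z : wGroup L.gens => ((act z.1)⁻¹ b).val) he
    simp only [f, map_mul, mul_inv_rev, Equiv.Perm.mul_apply, (hstab _ y.2).2, (hstab _ y'.2).2,
      hv] at e
    obtain rfl : t = t' := hmono.injective e
    exact Prod.ext rfl (Subtype.ext (mul_right_cancel (Subtype.ext_iff.1 he)))
  have := Nat.card_le_card_of_injective f hf
  rwa [Nat.card_prod, Nat.card_fin, hlen] at this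

theorem chain_bound : ∀ (Ls : List Level) (gs : List (List ℕ)), okChain Ls gs = true →
    chainSize Ls ≤ Nat.card (wGroup gs)
  | [], gs, _ => by
    simpa [chainSize] using Nat.one_le_iff_ne_zero.2 (Nat.card_pos (α := wGroup gs)).ne'
  | L :: Ls, gs, h => by
    simp only [okChain, Bool.and_eq_true, decide_eq_true_eq] at h
    obtain ⟨rfl, hL, hr⟩ := h
    refine le_trans ?_ (level_bound hL)
    simp only [chainSize, List.map_cons, List.prod_cons]
    exact Nat.mul_le_mul_left _ (chain_bound Ls _ hr)

end CfsgLib.LyCert
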