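import Cfsg.Agent.LyCert.Data.Facts0
import Cfsg.Agent.LyCert.Data.Facts1
import Cfsg.Agent.LyCert.Data.Facts2
import Cfsg.Agent.LyCert.Data.Facts3

/-! All facts pass the check. -/

set_option autoImplicit false

namespace CfsgLib.LyCert

theorem check_of_lt {n : ℕ} (hn : n < items.length) : check n = true := by
  have hm := List.mem_range.2 hn
  rcases (show n % 4 = 0 ∨ n % 4 = 1 ∨ n % 4 = 2 ∨ n % 4 = 3 by omega) with h | h | h | h
  · simpa [h] using List.all_eq_true.1 facts0_ok n hm
  · simpa [h] using List.all_eq_true.1 facts1_ok n hm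
  · simpa [h] using List.all_eq_true.1 facts2_ok n hm
  · simpa [h] using List.all_eq_true.1 facts3_ok n hm

theorem says_holds {n : ℕ} (hn : n < items.length) : Says n := by
  induction n using Nat.strong_induction_on with
  | _ n ih => exact check_sound (fun f hf => ih f hf (lt_trans hf hn)) (check_of_lt hn)

end CfsgLib.LyCert
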