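import Cfsg.Agent.LyCert.Table
import Cfsg.Agent.LyCert.Data.Forest
import Cfsg.Agent.LyCert.Data.Items
import Cfsg.Agent.LyG2.Upper

/-! The check of the orbit forests. -/

set_option autoImplicit false

namespace CfsgLib.LyCert

open CfsgLib.CosetEnum

/-- The forest of a representative. -/
noncomputable def forC (s k : ℕ) : ℕ :=
  bif Nat.beq s 0 then fo0 k else bif Nat.beq s 1 then fo1 k else bif Nat.beq s 2 then fo2 k
  else bif Nat.beq s 3 then fo3 k else fo4 k

/-- The positions in a forest. -/
noncomputable def posC (s k : ℕ) : ℕ :=
  bif Nat.beq s 0 then fp0 k else bif Nat.beq s 1 then fp1 k else bif Nat.beq s 2 then fp2 k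
  else bif Nat.beq s 3 then fp3 k else fp4 k

/-- The position of a point. -/
noncomputable def fPos (s q : ℕ) : ℕ := look (posC s) 256 15 32767 q

/-- The entry at a position. -/
noncomputable def fEnt (s j : ℕ) : ℕ := look (forC s) 128 38 274877906943 j

/-- The point of an entry. -/
def ePt (e : ℕ) : ℕ := Nat.land e 32767

/-- The parent of an entry. -/
def ePar (e : ℕ) : ℕ := Nat.land (Nat.shiftRight e 15) 32767

/-- The fact of an entry. -/
def eFact (e : ℕ) : ℕ := Nat.shiftRight e 30

/-- A point sits at its position and hangs there on a fact of the representative. -/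
noncomputable def okTree (s q : ℕ) : Bool :=
  bif Nat.blt q 19530 then
    force (fPos s q) fun j => force (fEnt s j) fun e => force (eFact e) fun k =>
      Nat.beq (ePt e) q && (Nat.blt k 86 && (Nat.beq (items.getD k Item.nil).i s &&
        bif Nat.beq (ePar e) j then
          (items.getD k Item.nil).edge &&
            Nat.beq (walk (((items.getD k Item.nil).h.map LyG2.iv).reverse) 0) q
        else
          Nat.blt (ePar e) j && (!(items.getD k Item.nil).edge &&
            force (ePt (fEnt s (ePar e))) fun p => Nat.blt p 19530 && (Nat.beq (fPos s p) (ePar e) &&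
              Nat.beq (walk (items.getD k Item.nil).h p) q))))
  else true

end CfsgLib.LyCert
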