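import Cfsg.Agent.LyCert.Words

/-!
`G₂(5)` inside `Ly`: the presented group on eight generators, its embedding, and the comparison of
its words by matrices of size fourteen.
-/

set_option autoImplicit false
set_option maxRecDepth 100000

namespace CfsgLib.LyCert

open CfsgLib.CosetEnum CfsgLib.LyG2 Cfsg.Spor Subgroup

theorem hom_injective : Function.Injective G14.hom := by
  obtain ⟨hfin, hle⟩ := P_finite_and_card_le
  haveI := hfin
  refine ((Nat.bijective_iff_surjective_and_card _).2 ⟨G14.hom_surjective, ?_⟩).1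
  have := Nat.card_le_card_of_surjective _ G14.hom_surjective
  rw [G14.card_target] at this ⊢
  omega

instance finite_P : Finite P := P_finite_and_card_le.1

theorem card_P : Nat.card P = 5859000000 := by
  rw [← G14.card_target]
  exact Nat.card_congr (Equiv.ofBijective _ ⟨hom_injective, G14.hom_surjective⟩)

/-- The embedding. -/
def psi : P →* Cfsg.Spor.Ly := PresentedGroup.toGroup p_rels

theorem psi_of (i : Fin 8) : psi (PresentedGroup.of i) = toLy (FreeGroup.of (gen8 i)) :=
  PresentedGroup.toGroup.of _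

theorem psi_injective : Function.Injective psi := by
  obtain ⟨E⟩ := G14.nonempty_equiv
  haveI : IsSimpleGroup G14.G25 := G14.isSimple
  haveI : IsSimpleGroup P := E.isSimpleGroup
  rcases psi.normal_ker.eq_bot_or_eq_top with h | h
  · exact (MonoidHom.ker_eq_bot_iff psi).1 h
  · refine absurd ?_ Rep.a_ne_one
    have : PresentedGroup.of 0 ∈ psi.ker := h ▸ Subgroup.mem_top _
    rw [MonoidHom.mem_ker, psi_of] at this
    exact this

/-- The subgroup `⟨a, b, c, d⟩`. -/
def Hs : Subgroup Cfsg.Spor.Ly := (closure abcd).map toLy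

theorem range_psi : psi.range = Hs := by
  refine le_antisymm ?_ ?_
  · rw [MonoidHom.range_eq_map, ← PresentedGroup.closure_range_of, MonoidHom.map_closure, closure_le]
    rintro _ ⟨_, ⟨i, rfl⟩, rfl⟩
    rw [psi_of]
    exact gen8_mem i
  · rw [Hs, MonoidHom.map_closure, closure_le]
    rintro _ ⟨g, hg, rfl⟩
    simp only [abcd, Set.mem_insert_iff, Set.mem_singleton_iff] at hg
    rcases hg with rfl | rfl | rfl | rfl
    · exact ⟨PresentedGroup.of 0, psi_of 0⟩
    · exact ⟨PresentedGroup.of 1, psi_of 1⟩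
    · exact ⟨PresentedGroup.of 2, psi_of 2⟩
    · exact ⟨PresentedGroup.of 3, psi_of 3⟩

theorem psi_mem (s : P) : psi s ∈ Hs := range_psi ▸ ⟨s, rfl⟩

theorem card_Hs : Nat.card Hs = 5859000000 := by
  rw [← range_psi, ← card_P]
  exact Nat.card_congr (MonoidHom.ofInjective psi_injective).symm.toEquiv

/-- All letters are below sixteen. -/
def low (w : List ℕ) : Bool := w.all fun x => Nat.blt x 16

theorem lt_of_low {w : List ℕ} (h : low w = true) : ∀ x ∈ w, x < 16 := fun x hx =>
  Nat.le_of_ble_eq_true (List.all_eq_true.1 h x hx)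

/-- The inverse word. -/
def wi (w : List ℕ) : List ℕ := (w.map iv).reverse

theorem gw_low {x : ℕ} (hx : x < 16) : gw x = toLy (gl x) := by
  rw [gw, fl18, show Nat.blt x 16 = true from Nat.ble_eq_true_of_le hx, cond_true]

theorem psi_pl {x : ℕ} (hx : x < 16) : psi (pl x) = gw x := by
  rw [gw_low hx, pl, gl, map_lv, map_lv]
  simp only [lv_eq, psi_of, Fin.val_ofNat, show x / 2 % 8 = x / 2 by omega]

theorem psi_prodw {w : List ℕ} (hw : ∀ x ∈ w, x < 16) : psi (prodw pl w) = prodw gw w := by
  simp only [prodw, map_list_prod, List.map_map]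
  exact congrArg List.prod (List.map_congr_left fun x hx => psi_pl (hw x hx))

theorem gw_iv {x : ℕ} (hx : x < 18) : gw (iv x) = (gw x)⁻¹ := by
  interval_cases x
  all_goals
    show toLy _ = (toLy _)⁻¹
    rw [← map_inv]
    congr 1

theorem iv_lt {x : ℕ} (hx : x < 16) : iv x < 16 := by interval_cases x <;> decide

theorem wi_low {w : List ℕ} (hw : ∀ x ∈ w, x < 16) : ∀ x ∈ wi w, x < 16 := by
  intro x hx
  obtain ⟨y, hy, rfl⟩ := List.mem_map.1 (List.mem_reverse.1 hx)
  exact iv_lt (hw y hy)

theorem prodw_gw_wi {w : List ℕ} (hw : ∀ x ∈ w, x < 18) : prodw gw (wi w) = (prodw gw w)⁻¹ := by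
  refine prodw_rev_iv gw 18 iv (fun x hx _ => gw_iv hx) w fun y hy => ?_
  have := hw y hy
  exact ⟨this, by interval_cases y <;> decide⟩

theorem prodw_pl_wi {w : List ℕ} (hw : ∀ x ∈ w, x < 16) : prodw pl (wi w) = (prodw pl w)⁻¹ :=
  prodw_rev_iv pl 16 iv (fun x _ _ => pl_iv x) w fun y hy => ⟨hw y hy, iv_lt (hw y hy)⟩

/-- Two words give the same matrix. -/
def eqW (u v : List ℕ) : Bool := low u && (low v && chkWords 14 G14.tabs [u ++ wi v])

theorem eqW_pl {u v : List ℕ} (h : eqW u v = true) : prodw pl u = prodw pl v := by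
  simp only [eqW, Bool.and_eq_true] at h
  obtain ⟨hu, hv, hc⟩ := h
  have hu := lt_of_low hu
  have hv := lt_of_low hv
  have hw : ∀ x ∈ u ++ wi v, x < 16 := fun x hx =>
    (List.mem_append.1 hx).elim (hu x) (wi_low hv x)
  have h1 := chk_word (N := 14) (by norm_num) G14.tabs G14.one_ok (fun x hx =>
    List.all_eq_true.1 G14.tabs_good x (List.mem_range.2 (lt_trans (hw x hx) (by norm_num)))) hc
    (List.mem_singleton.2 rfl)
  have h2 : G14.hom (prodw pl (u ++ wi v)) = 1 := by
    refine G14.mu_injective ?_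
    rw [G14.mu_one, ← h1]
    have e : G14.hom (prodw pl (u ++ wi v)) = prodw (fun x => G14.hom (pl x)) (u ++ wi v) := by
      simp only [prodw, map_list_prod, List.map_map]
      rfl
    rw [e, G14.mu_prodw]
    refine congrArg List.prod (List.map_congr_left fun x hx => ?_)
    rw [G14.hom_pl (hw x hx)]
    exact G14.mu_lv (hw x hx)
  have h3 : prodw pl (u ++ wi v) = 1 := hom_injective (h2.trans (map_one _).symm)
  rwa [prodw_append, prodw_pl_wi hv, mul_inv_eq_one] at h3

theorem eqW_gw {u v : List ℕ} (h : eqW u v = true) : prodw gw u = prodw gw v := by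
  have e := congrArg psi (eqW_pl h)
  simp only [eqW, Bool.and_eq_true] at h
  rwa [psi_prodw (lt_of_low h.1), psi_prodw (lt_of_low h.2.1)] at e

theorem prodw_mem {w : List ℕ} (hw : low w = true) : prodw gw w ∈ Hs := by
  rw [← psi_prodw (lt_of_low hw)]
  exact psi_mem _

end CfsgLib.LyCert
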