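import Cfsg.Agent.LyCert.Checked
import Cfsg.Agent.LyCert.Chain
import Cfsg.Agent.LyCert.Data.Tree0
import Cfsg.Agent.LyCert.Data.Tree1
import Cfsg.Agent.LyCert.Data.Tree2
import Cfsg.Agent.LyCert.Data.Tree3
import Cfsg.Agent.LyCert.Data.Tree4

/-! The double cosets of `G₂(5)` in `Ly`: at most 8835156 cosets. -/

set_option autoImplicit false
set_option maxRecDepth 100000

namespace CfsgLib.LyCert

open CfsgLib.CosetEnum CfsgLib.LyG2 Cfsg.Spor Subgroup

theorem items_wf : (List.range 86).all (fun n => low (item n).h && (low (item n).h2 &&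
    (Nat.blt (item n).i 5 && Nat.blt (item n).j 5))) = true := by decide +kernel

theorem items_length : items.length = 86 := by decide +kernel

theorem item_low {n : ℕ} (hn : n < 86) : (∀ x ∈ (item n).h, x < 16) ∧ (∀ x ∈ (item n).h2, x < 16) ∧
    (item n).i < 5 ∧ (item n).j < 5 := by
  have h := List.all_eq_true.1 items_wf n (List.mem_range.2 hn)
  simp only [Bool.and_eq_true, Nat.blt_eq] at h
  exact ⟨lt_of_low h.1, lt_of_low h.2.1, h.2.2.1, h.2.2.2⟩

/-- The stabiliser of the double coset of a representative. -/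
def K (i : ℕ) : Subgroup P := (Hs.comap (MulAut.conj (repv i)).toMonoidHom).comap psi

theorem mem_K {i : ℕ} {s : P} : s ∈ K i ↔ Same (repv i * psi s) (repv i) := Iff.rfl

theorem gen_mem_K {n : ℕ} (hn : n < 86) (he : (item n).edge = false) :
    prodw pl (item n).h ∈ K (item n).i := by
  have h := says_holds (n := n) (by rw [items_length]; exact hn)
  rw [Says, if_neg (by simp [he])] at h
  rw [mem_K, psi_prodw (item_low hn).1]
  exact h

theorem tree_ok : ∀ s < 5, allR (okTree s) 15 0 = true := by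
  intro s hs
  interval_cases s
  exacts [tree0, tree1, tree2, tree3, tree4]

/-- Every point is reached from an edge fact by the stabiliser. -/
theorem cover {s : ℕ} (hs : s < 5) (q : Pt) : ∃ σ ∈ K s, ∃ f < 86,
    (item f).edge = true ∧ (item f).i = s ∧ pt (σ * prodw pl (item f).h) = q := by
  suffices H : ∀ (j : ℕ) (q : Pt), fPos s q = j → ∃ σ ∈ K s, ∃ f < 86,
      (item f).edge = true ∧ (item f).i = s ∧ pt (σ * prodw pl (item f).h) = q from H _ q rfl
  intro j
  induction j using Nat.strong_induction_on with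
  | _ j ih =>
    intro q hj
    have h := allR_spec 15 0 (tree_ok s hs) q (Nat.zero_le _) (by omega)
    rw [okTree, show Nat.blt (q : ℕ) 19530 = true from Nat.ble_eq_true_of_le q.isLt, cond_true] at h
    simp only [force_eq, hj] at h
    rw [Bool.and_eq_true, Bool.and_eq_true, Bool.and_eq_true, Nat.blt_eq] at h
    obtain ⟨-, hk, hi, h⟩ := h
    set k := eFact (fEnt s j)
    have hi' : (item k).i = s := Nat.eq_of_beq_eq_true hi
    cases h0 : Nat.beq (ePar (fEnt s j)) j
    · simp only [h0, cond_false, Bool.and_eq_true, Nat.blt_eq, Bool.not_eq_true'] at h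
      obtain ⟨hp, he, hq, hpos, hw⟩ := h
      obtain ⟨σ, hσ, f, hf, hfe, hfi, hpt⟩ := ih _ hp ⟨_, hq⟩ (Nat.eq_of_beq_eq_true hpos)
      have hg := gen_mem_K (n := k) hk he
      rw [hi'] at hg
      refine ⟨(prodw pl (item k).h)⁻¹ * σ, mul_mem (inv_mem hg) hσ, f, hf, hfe, hfi, Fin.ext ?_⟩
      rw [mul_assoc, pt_mul, hpt, map_inv, act_word (item_low hk).1]
      exact Nat.eq_of_beq_eq_true hw
    · simp only [h0, cond_true, Bool.and_eq_true] at h
      exact ⟨1, one_mem _, k, hk, h.1, hi', Fin.ext (by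
        rw [one_mul, pt_word (item_low hk).1]; exact Nat.eq_of_beq_eq_true h.2)⟩

/-- The stabiliser of the point `0`. -/
noncomputable def M0 : Subgroup P := (MulAction.stabilizer (Equiv.Perm Pt) (0 : Pt)).comap act

theorem mem_M0 {m : P} : m ∈ M0 ↔ pt m = 0 := Iff.rfl

theorem card_M0_le : 19530 * Nat.card M0 ≤ 5859000000 := by
  choose σ hσ f hf hfe hfi hpt using fun q : Pt => cover (s := 0) (by norm_num) q
  let F : Pt × M0 → P := fun p => σ p.1 * prodw pl (item (f p.1)).h * p.2
  have hF : Function.Injective F := by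
    rintro ⟨q, m⟩ ⟨q', m'⟩ he
    have e := congrArg pt he
    simp only [F] at e
    rw [pt_mul (σ q * _), pt_mul (σ q' * _), mem_M0.1 m.2, mem_M0.1 m'.2] at e
    change pt _ = pt _ at e
    rw [hpt, hpt] at e
    subst e
    exact Prod.ext rfl (Subtype.ext (mul_left_cancel he))
  have := Nat.card_le_card_of_injective F hF
  rwa [Nat.card_prod, Nat.card_fin, card_P] at this

/-- The words of the moved generators. -/
def mList : List (List ℕ) := (List.range 8).map mW

theorem chain0_ok : okChain chain0 mList = true := by decide +kernel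
theorem chain1_ok : okChain chain1 ((chain1.headD ⟨0, [], [], [], [], []⟩).gens) = true := by decide +kernel
theorem chain2_ok : okChain chain2 ((chain2.headD ⟨0, [], [], [], [], []⟩).gens) = true := by decide +kernel
theorem chain3_ok : okChain chain3 ((chain3.headD ⟨0, [], [], [], [], []⟩).gens) = true := by decide +kernel
theorem chain4_ok : okChain chain4 ((chain4.headD ⟨0, [], [], [], [], []⟩).gens) = true := by decide +kernel

theorem mList_ok : (List.range 8).all (fun k => low (mW k) && (low (mzW k) &&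
    Nat.beq (walk (mW k) 0) 0)) = true := by decide +kernel

theorem mList_spec {k : ℕ} (hk : k < 8) : (∀ x ∈ mW k, x < 16) ∧ (∀ x ∈ mzW k, x < 16) ∧
    walk (mW k) 0 = 0 := by
  have h := List.all_eq_true.1 mList_ok k (List.mem_range.2 hk)
  simp only [Bool.and_eq_true] at h
  exact ⟨lt_of_low h.1, lt_of_low h.2.1, Nat.eq_of_beq_eq_true h.2.2⟩

theorem wGroup_mList : wGroup mList = M0 := by
  have hle : wGroup mList ≤ M0 := by
    refine (closure_le _).2 ?_
    rintro _ ⟨w, hw, rfl⟩
    obtain ⟨k, hk, rfl⟩ := List.mem_map.1 hw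
    obtain ⟨hl, -, hwk⟩ := mList_spec (List.mem_range.1 hk)
    refine (M0.inv_mem_iff).1 (mem_M0.2 (Fin.ext ?_))
    rw [pt, map_inv, act_word hl]
    exact hwk
  refine eq_of_le_of_card_ge hle ?_
  have h1 := chain_bound _ _ chain0_ok
  rw [show chainSize chain0 = 300000 by decide +kernel] at h1
  have := card_M0_le
  omega

/-- An element fixing the point `0` is moved into `G₂(5)` by `z`. -/
theorem M0_conj {m : P} (hm : m ∈ M0) : ∃ m' : P, psi m * zz = zz * psi m' := by
  rw [← wGroup_mList] at hm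
  induction hm using closure_induction with
  | mem y hy =>
    obtain ⟨w, hw, rfl⟩ := hy
    obtain ⟨k, hk, rfl⟩ := List.mem_map.1 hw
    obtain ⟨hl, hl', -⟩ := mList_spec (List.mem_range.1 hk)
    refine ⟨prodw pl (mzW k), ?_⟩
    rw [psi_prodw hl, psi_prodw hl']
    simpa [mWs, mzWs] using zconj_m [k]
  | one => exact ⟨1, by simp⟩
  | mul y y' _ _ h h' =>
    obtain ⟨a, ha⟩ := h; obtain ⟨b, hb⟩ := h'
    exact ⟨a * b, by rw [map_mul, map_mul, mul_assoc, hb, ← mul_assoc, ha, mul_assoc]⟩
  | inv y _ h =>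
    obtain ⟨a, ha⟩ := h
    refine ⟨a⁻¹, ?_⟩
    rw [map_inv, map_inv, inv_mul_eq_iff_eq_mul, ← mul_assoc, ha, mul_assoc, mul_inv_cancel, mul_one]

/-- A translate of a representative times `z` is such a translate. -/
theorem step_exists {s : ℕ} (hs : s < 5) (g : P) :
    ∃ j < 5, ∃ g' : P, Same (repv s * psi g * zz) (repv j * psi g') := by
  obtain ⟨σ, hσ, f, hf, hfe, hfi, hpt⟩ := cover hs (pt g)
  set h := prodw pl (item f).h with hh
  have hm : (σ * h)⁻¹ * g ∈ M0 := by
    rw [mem_M0, pt_mul, ← hpt, pt, map_inv, ← Equiv.Perm.mul_apply, inv_mul_cancel,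
      Equiv.Perm.one_apply]
  obtain ⟨m', hm'⟩ := M0_conj hm
  have hF := says_holds (n := f) (by rw [items_length]; exact hf)
  rw [Says, if_pos hfe, hfi, pos, pos, ← psi_prodw (item_low hf).1, ← psi_prodw (item_low hf).2.1] at hF
  refine ⟨_, (item_low hf).2.2.2, prodw pl (item f).h2 * m', ?_⟩
  have e : repv s * psi g * zz = repv s * psi σ * (psi h * (zz * psi m')) := by
    have hg : g = σ * (h * ((σ * h)⁻¹ * g)) := by group
    rw [← hm']
    conv_lhs => rw [hg]
    simp only [map_mul, mul_assoc]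
  rw [e]
  refine ((mem_K.1 hσ).mul_right _).trans ?_
  rw [map_mul, ← mul_assoc (repv _) (psi _) (psi m')]
  simpa [mul_assoc] using hF.mul_right (psi m')

/-- The elements in the double cosets listed. -/
def Reached (x : Cfsg.Spor.Ly) : Prop := ∃ j < 5, ∃ g : P, Same x (repv j * psi g)

theorem reached_letter {x : Cfsg.Spor.Ly} (h : Reached x) {l : ℕ} (hl : l < 18) :
    Reached (x * gw l) := by
  obtain ⟨j, hj, g, hg⟩ := h
  have hH : ∀ {j : ℕ}, j < 5 → ∀ (g : P) (w : List ℕ), (∀ y ∈ w, y < 16) →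
      Reached (repv j * psi g * prodw gw w) := fun hj g w hw => ⟨_, hj, g * prodw pl w, by
    rw [map_mul, psi_prodw hw, ← mul_assoc]; exact Same.refl _⟩
  have hz : ∀ {j : ℕ}, j < 5 → ∀ g : P, Reached (repv j * psi g * zz) := fun hj g => step_exists hj g
  have htr : ∀ {a b : Cfsg.Spor.Ly}, Same a b → Reached b → Reached a := fun e ⟨j, hj, g, hg⟩ =>
    ⟨j, hj, g, e.trans hg⟩
  refine htr (hg.mul_right _) ?_
  rcases Nat.lt_or_ge l 16 with h16 | h16
  · simpa [prodw] using hH hj g [l] (by simpa using h16)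
  interval_cases l
  · exact hz hj g
  · rw [gw_zinv, zinv_eq.1, ← mul_assoc]
    obtain ⟨k, hk, g', hg'⟩ := hz hj g
    exact htr (hg'.mul_right _) (hH hk g' _ (by decide))

theorem reached_prodw : ∀ (w : List ℕ), (∀ l ∈ w, l < 18) → ∀ {x}, Reached x → Reached (x * prodw gw w)
  | [], _, x, h => by simpa [prodw] using h
  | l :: w, hw, x, h => by
    rw [prodw_cons, ← mul_assoc]
    exact reached_prodw w (fun y hy => hw y (List.mem_cons_of_mem l hy))
      (reached_letter h (hw l List.mem_cons_self))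

theorem sw_lt : ∀ g : Ly.Gen, (sw g).all (fun x => Nat.blt x 18) = true := by
  intro g; cases g <;> decide

theorem reached_all (y : Cfsg.Spor.Ly) : Reached y := by
  suffices H : ∀ x, Reached x → Reached (x * y) ∧ Reached (x * y⁻¹) by
    simpa using (H 1 ⟨0, by norm_num, 1, by simpa [repv_zero] using Same.refl _⟩).1
  have hy : y ∈ closure (Set.range (PresentedGroup.of (rels := lyRels))) := by
    rw [PresentedGroup.closure_range_of]; exact mem_top _
  induction hy using closure_induction with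
  | mem y hy =>
    obtain ⟨g, rfl⟩ := hy
    have hl : ∀ l ∈ sw g, l < 18 := fun l hl => Nat.le_of_ble_eq_true (List.all_eq_true.1 (sw_lt g) l hl)
    intro x hx
    rw [show (PresentedGroup.of g : Cfsg.Spor.Ly) = prodw gw (sw g) from toLy_of g]
    refine ⟨reached_prodw _ hl hx, ?_⟩
    rw [← prodw_gw_wi hl]
    refine reached_prodw _ ?_ hx
    intro l' hl'
    obtain ⟨l, hm, rfl⟩ := List.mem_map.1 (List.mem_reverse.1 hl')
    have h := hl l hm
    interval_cases l <;> decide
  | one => exact fun x hx => by simpa using hx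
  | mul a b _ _ ha hb =>
    intro x hx
    refine ⟨by rw [← mul_assoc]; exact (hb _ (ha x hx).1).1, ?_⟩
    rw [mul_inv_rev, ← mul_assoc]
    exact (ha _ (hb x hx).2).2
  | inv a _ ha => exact fun x hx => by simpa using (ha x hx).symm

/-- The base point of a suborbit. -/
def base (j : ℕ) : Cfsg.Spor.Ly ⧸ Hs := ((repv j)⁻¹ : Cfsg.Spor.Ly)

theorem exists_orbit (x : Cfsg.Spor.Ly ⧸ Hs) : ∃ j < 5, ∃ g : P, x = psi g • base j := by
  obtain ⟨y, rfl⟩ := QuotientGroup.mk_surjective x
  obtain ⟨j, hj, g, hg⟩ := reached_all y⁻¹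
  refine ⟨j, hj, g⁻¹, ?_⟩
  rw [base, MulAction.Quotient.smul_coe, smul_eq_mul, QuotientGroup.eq]
  simpa [Same, mul_assoc, map_inv] using hg

theorem card_K {i : ℕ} (hi : i < 5) (Ls : List Level)
    (hok : okChain Ls ((Ls.headD ⟨0, [], [], [], [], []⟩).gens) = true)
    (hgens : ((Ls.headD ⟨0, [], [], [], [], []⟩).gens).all (fun w => (List.range 86).any fun n =>
      !(item n).edge && (Nat.beq (item n).i i && decide ((item n).h = w))) = true) :
    chainSize Ls ≤ Nat.card (K i) := by
  refine le_trans (chain_bound _ _ hok) (Nat.card_le_card_of_injective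
    (inclusion ((closure_le _).2 ?_)) (inclusion_injective _))
  rintro _ ⟨w, hw, rfl⟩
  obtain ⟨n, hn, hv⟩ := List.any_eq_true.1 (List.all_eq_true.1 hgens w hw)
  simp only [Bool.and_eq_true, decide_eq_true_eq, Bool.not_eq_true'] at hv
  have h := gen_mem_K (List.mem_range.1 hn) hv.1
  rwa [Nat.eq_of_beq_eq_true hv.2.1, hv.2.2] at h

/-- The sizes of the suborbits. -/
def subSize : ℕ → ℕ
  | 0 => 1
  | 1 => 19530
  | 2 => 5812500
  | 3 => 2034375
  | _ => 968750

theorem range_orbit (j : ℕ) :
    Set.range (fun g : P => psi g • base j) = MulAction.orbit Hs (base j) := by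
  ext x
  constructor
  · rintro ⟨g, rfl⟩; exact ⟨⟨psi g, psi_mem g⟩, rfl⟩
  · rintro ⟨⟨h, hh⟩, rfl⟩
    rw [← range_psi] at hh
    obtain ⟨g, rfl⟩ := hh
    exact ⟨g, rfl⟩

theorem orbit_le {j : ℕ} (hj : j < 5) :
    Set.Finite (MulAction.orbit Hs (base j)) ∧ Nat.card (MulAction.orbit Hs (base j)) ≤ subSize j := by
  rw [← range_orbit]
  refine ⟨Set.finite_range _, ?_⟩
  by_cases h0 : j = 0
  · subst h0
    have he : ∀ g : P, psi g • base 0 = base 0 := fun g => by
      rw [base, MulAction.Quotient.smul_coe, smul_eq_mul, QuotientGroup.eq, repv_zero]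
      simpa using Hs.inv_mem (psi_mem g)
    rw [show Set.range (fun g : P => psi g • base 0) = {base 0} from by
      simp only [he]; exact Set.range_const]
    simp [subSize]
  let f : P ⧸ K j → ↥(Set.range fun g : P => psi g • base j) := fun x =>
    Quotient.liftOn' x (fun g => ⟨psi g • base j, g, rfl⟩) fun a b hab => Subtype.ext (by
      have h := mem_K.1 (QuotientGroup.leftRel_apply.mp hab)
      show psi a • base j = psi b • base j
      rw [base, MulAction.Quotient.smul_coe, MulAction.Quotient.smul_coe, smul_eq_mul, smul_eq_mul,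
        QuotientGroup.eq]
      simpa [Same, mul_assoc] using h)
  have hf : Function.Surjective f := by
    rintro ⟨_, g, rfl⟩; exact ⟨(g : P ⧸ K j), rfl⟩
  refine le_trans (Nat.card_le_card_of_surjective f hf) ?_
  have hi := Subgroup.index_mul_card (K j)
  rw [card_P] at hi
  have hk : 5859000000 ≤ subSize j * Nat.card (K j) := by
    interval_cases j
    · exact absurd rfl h0
    · exact le_trans (by decide +kernel) (Nat.mul_le_mul_left _ (card_K (by norm_num) _ chain1_ok (by decide +kernel)))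
    · exact le_trans (by decide +kernel) (Nat.mul_le_mul_left _ (card_K (by norm_num) _ chain2_ok (by decide +kernel)))
    · exact le_trans (by decide +kernel) (Nat.mul_le_mul_left _ (card_K (by norm_num) _ chain3_ok (by decide +kernel)))
    · exact le_trans (by decide +kernel) (Nat.mul_le_mul_left _ (card_K (by norm_num) _ chain4_ok (by decide +kernel)))
  rw [← hi] at hk
  exact Nat.le_of_mul_le_mul_right hk Nat.card_pos

theorem finite_quot : Finite (Cfsg.Spor.Ly ⧸ Hs) := by
  have h : (Set.univ : Set (Cfsg.Spor.Ly ⧸ Hs)) ⊆ ⋃ j : Fin 5, MulAction.orbit Hs (base j) := by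
    intro x _
    obtain ⟨j, hj, g, rfl⟩ := exists_orbit x
    exact Set.mem_iUnion.2 ⟨⟨j, hj⟩, ⟨psi g, psi_mem g⟩, rfl⟩
  exact Set.finite_univ_iff.1 ((Set.finite_iUnion fun j : Fin 5 => (orbit_le j.isLt).1).subset h)

instance : Finite (Cfsg.Spor.Ly ⧸ Hs) := finite_quot

instance finite_Ly : Finite Cfsg.Spor.Ly :=
  haveI : Finite Hs := Nat.finite_of_card_ne_zero (by rw [card_Hs]; norm_num)
  Finite.of_equiv _ (Subgroup.groupEquivQuotientProdSubgroup (s := Hs)).symm

theorem card_orbits_ge :
    Nat.card (Cfsg.Spor.Ly ⧸ Hs) ≤ ∑ j : Fin 5, Nat.card (MulAction.orbit Hs (base j)) := by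
  rw [← Nat.card_sigma]
  refine Nat.card_le_card_of_surjective (fun p => (p.2 : Cfsg.Spor.Ly ⧸ Hs)) fun x => ?_
  obtain ⟨j, hj, g, rfl⟩ := exists_orbit x
  exact ⟨⟨⟨j, hj⟩, ⟨_, ⟨psi g, psi_mem g⟩, rfl⟩⟩, rfl⟩

theorem sum_subSize : ∑ j : Fin 5, subSize j = 8835156 := by decide

theorem index_le : Hs.index ≤ 8835156 :=
  le_trans card_orbits_ge (sum_subSize ▸ Finset.sum_le_sum fun j _ => (orbit_le j.isLt).2)

end CfsgLib.LyCert
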