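/-! The format of the certificate of coset facts. -/

set_option autoImplicit false

namespace CfsgLib.LyCert

/-- A step: an edge fact, elements of the stabiliser, elements of the subgroup moved by `z`. -/
structure Step where
  /-- The edge fact. -/
  f : Nat
  /-- Earlier stabiliser facts. -/
  ws : List Nat
  /-- Generators of the subgroup moved by `z`. -/
  wm : List Nat

/-- A fact: `H rᵢ h z = H rⱼ h2` for an edge, `H rᵢ h = H rᵢ` otherwise. -/
structure Item where
  /-- Edge or stabiliser. -/
  edge : Bool
  /-- `0` evident, `1` by a relator, `2` by two steps. -/
  how : Nat
  /-- The first representative. -/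
  i : Nat
  /-- The first word. -/
  h : List Nat
  /-- The second representative. -/
  j : Nat
  /-- The second word. -/
  h2 : List Nat
  /-- The relator. -/
  r : Nat
  /-- The start. -/
  g : List Nat
  /-- The edge of the second step. -/
  f : Nat
  /-- Its stabiliser part. -/
  ws : List Nat
  /-- Its moved part. -/
  wm : List Nat
  /-- The steps. -/
  steps : List Step

/-- An empty fact. -/
def Item.nil : Item := ⟨false, 3, 0, [], 0, [], 0, [], 0, [], [], []⟩

end CfsgLib.LyCert
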