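/-! The format of a step in a chain of point stabilisers. -/

set_option autoImplicit false

namespace CfsgLib.LyCert

/-- A point, generators, the orbit as a tree, the orbit in increasing order, generators of the next
step and their expressions. -/
structure Level where
  /-- The point. -/
  b : Nat
  /-- Generators. -/
  gens : List (List Nat)
  /-- Points with parent and generator. -/
  orb : List (Nat × Nat × Nat)
  /-- Positions by increasing point. -/
  order : List Nat
  /-- Generators fixing the point. -/
  next : List (List Nat)
  /-- Their expressions. -/
  prods : List (List Nat)

end CfsgLib.LyCert
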