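import Cfsg.Agent.LyCert.Index
import Cfsg.Agent.LySimple
import Cfsg.Prelude.Def_Sporadic

/-! Index, suborbit lengths, order and simplicity of `Ly`, given a lower bound for its order. -/

set_option autoImplicit false
set_option maxRecDepth 100000

namespace CfsgLib.LyCert

open CfsgLib.LyG2 Cfsg.Spor Subgroup

variable (hlow : 51765179004000000 ∣ Nat.card Cfsg.Spor.Ly)
include hlow

theorem index_eq_of_dvd : Hs.index = 8835156 := by
  refine le_antisymm index_le ?_
  have h := Nat.le_of_dvd Nat.card_pos hlow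
  rw [← Hs.index_mul_card, card_Hs] at h
  omega

theorem card_eq_of_dvd : Nat.card Cfsg.Spor.Ly = 51765179004000000 := by
  rw [← Hs.index_mul_card, index_eq_of_dvd hlow, card_Hs]

theorem orbit_eq_of_dvd {j : ℕ} (hj : j < 5) :
    Nat.card (MulAction.orbit Hs (base j)) = subSize j := by
  have h1 : ∑ i : Fin 5, subSize i ≤ ∑ i : Fin 5, Nat.card (MulAction.orbit Hs (base i)) :=
    le_trans (le_of_eq (by rw [sum_subSize, ← index_eq_of_dvd hlow]; rfl)) card_orbits_ge
  have h2 : ∀ i ∈ (Finset.univ : Finset (Fin 5)),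
      Nat.card (MulAction.orbit Hs (base i)) ≤ subSize i := fun i _ => (orbit_le i.isLt).2
  exact (Finset.sum_eq_sum_iff_of_le h2).1 (le_antisymm (Finset.sum_le_sum h2) h1) ⟨j, hj⟩
    (Finset.mem_univ _)

theorem isSimple_of_dvd : IsSimpleGroup Cfsg.Spor.Ly := by
  refine CfsgLib.LySimple.isSimple (index_eq_of_dvd hlow) ![base 1, base 4, base 3, base 2] ?_ ?_
  · intro i
    fin_cases i
    · exact orbit_eq_of_dvd hlow (j := 1) (by norm_num)
    · exact orbit_eq_of_dvd hlow (j := 4) (by norm_num)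
    · exact orbit_eq_of_dvd hlow (j := 3) (by norm_num)
    · exact orbit_eq_of_dvd hlow (j := 2) (by norm_num)
  · intro x hx
    obtain ⟨j, hj, g, rfl⟩ := exists_orbit x
    have hmem : psi g • base j ∈ MulAction.orbit Hs (base j) := ⟨⟨psi g, psi_mem g⟩, rfl⟩
    interval_cases j
    · refine absurd ?_ hx
      show psi g • base 0 = ((1 : Cfsg.Spor.Ly) : Cfsg.Spor.Ly ⧸ Hs)
      rw [base, MulAction.Quotient.smul_coe, smul_eq_mul, repv_zero, inv_one, mul_one, QuotientGroup.eq]
      simpa using Hs.inv_mem (psi_mem g)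
    · exact ⟨0, hmem⟩
    · exact ⟨3, hmem⟩
    · exact ⟨2, hmem⟩
    · exact ⟨1, hmem⟩

theorem isLy_of_dvd : Cfsg.IsLy Cfsg.Spor.Ly := ⟨isSimple_of_dvd hlow, card_eq_of_dvd hlow⟩

end CfsgLib.LyCert
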