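import Cfsg.Agent.LyCert.Data.Table0
import Cfsg.Agent.LyCert.Data.Table1
import Cfsg.Agent.LyCert.Data.Table2
import Cfsg.Agent.LyCert.Data.Table3
import Cfsg.Agent.LyG2.Pres

/-! The table of the sixteen letters on 19530 points. -/

set_option autoImplicit false

namespace CfsgLib.LyCert

open CfsgLib.CosetEnum

/-- The chunk of a letter. -/
noncomputable def tb (x k : ℕ) : ℕ :=
  bif Nat.blt x 8 then
    bif Nat.blt x 4 then
      bif Nat.blt x 2 then (bif Nat.beq x 0 then tb0 k else tb1 k)
      else (bif Nat.beq x 2 then tb2 k else tb3 k)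
    else bif Nat.blt x 6 then (bif Nat.beq x 4 then tb4 k else tb5 k)
      else (bif Nat.beq x 6 then tb6 k else tb7 k)
  else
    bif Nat.blt x 12 then
      bif Nat.blt x 10 then (bif Nat.beq x 8 then tb8 k else tb9 k)
      else (bif Nat.beq x 10 then tb10 k else tb11 k)
    else bif Nat.blt x 14 then (bif Nat.beq x 12 then tb12 k else tb13 k)
      else (bif Nat.beq x 14 then tb14 k else tb15 k)

/-- Entry of a chunked list. -/
def look (c : ℕ → ℕ) (per bits msk i : ℕ) : ℕ :=
  force (Nat.div i per) fun k => force (Nat.mod i per) fun j =>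
    Nat.land (Nat.shiftRight (c k) (Nat.mul bits j)) msk

/-- The image of a point. -/
noncomputable def img (x q : ℕ) : ℕ := look (tb x) 256 15 32767 q

/-- The image of a point under a word, letters from left to right. -/
noncomputable def walk (w : List ℕ) (q : ℕ) : ℕ :=
  List.rec (fun q => q) (fun x _ ih q => force (img x q) fun q' => ih q') w q

theorem walk_nil (q : ℕ) : walk [] q = q := rfl

theorem walk_cons (x : ℕ) (w : List ℕ) (q : ℕ) : walk (x :: w) q = walk w (img x q) := by
  show force (img x q) (fun q' => walk w q') = _
  rw [force_eq]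

theorem walk_append (v w : List ℕ) : ∀ q : ℕ, walk (v ++ w) q = walk w (walk v q) := by
  induction v with
  | nil => intro q; rfl
  | cons x v ih => intro q; rw [List.cons_append, walk_cons, walk_cons, ih]

/-- A letter sends a point to a point and its inverse brings it back. -/
noncomputable def okEntry (x q : ℕ) : Bool :=
  bif Nat.blt q 19530 then force (img x q) fun p => Nat.blt p 19530 && Nat.beq (img (LyG2.iv x) p) q
  else true

/-- A relator fixes a point. -/
noncomputable def okRel (r q : ℕ) : Bool :=
  bif Nat.blt q 19530 then Nat.beq (walk (LyG2.rwords.getD r []) q) q else true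

end CfsgLib.LyCert
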