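import Cfsg.Agent.LyG2.Main

/-!
The relators of `Ly` that involve `z`, as words in the sixteen letters of `G₂(5)`, the letter `16`
for `z` and `17` for its inverse.
-/

set_option autoImplicit false
set_option maxRecDepth 100000

namespace CfsgLib.LyCert

open CfsgLib.CosetEnum CfsgLib.LyG2 Cfsg.Spor

/-- A letter in the free group. -/
def fl18 (x : ℕ) : FreeGroup Ly.Gen :=
  bif Nat.blt x 16 then gl x else bif Nat.beq x 16 then Ly.z else Ly.z⁻¹

/-- A letter in `Ly`. -/
def gw (x : ℕ) : Cfsg.Spor.Ly := toLy (fl18 x)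

theorem toLy_prodw (w : List ℕ) : toLy (prodw fl18 w) = prodw gw w := by
  simp only [prodw, map_list_prod, List.map_map]
  rfl

/-- A generator as a word. -/
def sw : Ly.Gen → List ℕ
  | .e => [8]
  | .z => [16]
  | .c1 => [4]
  | .c2 => [10]
  | .c3 => [12]
  | .c4 => [14]
  | .c5 => [5, 11, 4, 10]
  | g => Rep.genWord g

/-- Generators defined by a relator, with the index of the relator. -/
def defs : List (Ly.Gen × ℕ) :=
  [(.a1, 44), (.a2, 45), (.a3, 46), (.a4, 47), (.u, 48), (.x23, 49), (.x24, 50), (.x25, 51),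
    (.x29, 52), (.x47, 53), (.x96, 54), (.x129, 55), (.x162, 56), (.x163, 57), (.x164, 58),
    (.x165, 59), (.x166, 60), (.x167, 61), (.x168, 62), (.x169, 63), (.x364, 64), (.x365, 65),
    (.x366, 66), (.x367, 67), (.x368, 68), (.x369, 69), (.x370, 70), (.x371, 71)]

theorem defs_eq : defs.map (fun p => Ly.extra.getD p.2 1) =
    defs.map (fun p => FreeGroup.of p.1 * (prodw fl18 (sw p.1))⁻¹) := by decide +kernel

theorem def_of_mem {p : Ly.Gen × ℕ} (hp : p ∈ defs) :
    toLy (FreeGroup.of p.1) = prodw gw (sw p.1) := by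
  obtain ⟨i, hi, rfl⟩ := List.getElem_of_mem hp
  have h := congrArg (fun l => l.getD i 1) defs_eq
  simp only [List.getD_eq_getElem?_getD, List.getElem?_map, List.getElem?_eq_getElem hi,
    Option.map_some, Option.getD_some] at h
  have h1 : toLy (Ly.extra.getD defs[i].2 1) = 1 := by
    by_cases hj : defs[i].2 < Ly.extra.length
    · rw [List.getD_eq_getElem _ _ hj]; exact extra_one (List.getElem_mem _)
    · rw [List.getD_eq_default _ _ (Nat.le_of_not_lt hj), map_one]
  rw [List.getD_eq_getElem?_getD, h, map_mul, map_inv, mul_inv_eq_one, toLy_prodw] at h1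
  exact h1

theorem toLy_of (g : Ly.Gen) : toLy (FreeGroup.of g) = prodw gw (sw g) := by
  by_cases hg : g ∈ defs.map Prod.fst
  · obtain ⟨p, hp, rfl⟩ := List.mem_map.1 hg
    exact def_of_mem hp
  rw [← toLy_prodw]
  cases g
  case c1 => rw [show FreeGroup.of Ly.Gen.c1 = Ly.c1 from rfl, eq_c1]; congr 1
  case c5 =>
    rw [show FreeGroup.of Ly.Gen.c5 = Ly.c5 from rfl, eq_c5]
    exact congrArg _ (by decide +kernel)
  case a | b | c | d | z | e | c2 | c3 | c4 => exact congrArg _ (by decide +kernel)
  all_goals exact absurd (by decide) hg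

/-- The relators with `z`: indices and words. -/
def zrels : List (ℕ × List ℕ) :=
  [(81, [3, 3, 0, 2, 2] ++ [16] ++ [3, 3, 0, 2, 2] ++ [16] ++ [3, 3, 0, 2, 2] ++ [16] ++ [0, 0]),
    (82, sw .x47 ++ [16] ++ sw .x364 ++ [16] ++ sw .x368 ++ [16]),
    (83, [17] ++ sw .x24 ++ [17] ++ sw .x369 ++ [16] ++ sw .x23 ++ [16] ++ sw .x29),
    (84, [16] ++ sw .x366 ++ [16] ++ sw .x365 ++ [17] ++ sw .x367 ++ [17] ++ sw .x370),
    (85, [16] ++ sw .x96 ++ [16] ++ sw .x25 ++ [17] ++ sw .x129 ++ [17] ++ sw .x371),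
    (80, [16, 16, 1, 1])]

/-- The generators of the subgroup moved into `H` by `z`. -/
def mGens : List Ly.Gen := [.c1, .c2, .c3, .c4, .c5, .a1, .a2, .a3]

/-- Their images. -/
def mImgs : List Ly.Gen := [.x162, .x163, .x164, .x165, .x166, .x167, .x168, .x169]

/-- The word of a generator of the subgroup. -/
def mW (k : ℕ) : List ℕ := (mGens.map sw).getD k []

/-- The word of the image of a generator of the subgroup. -/
def mzW (k : ℕ) : List ℕ := (mImgs.map sw).getD k []

/-- The words of all relators used. -/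
def relPairs : List (ℕ × List ℕ) :=
  zrels ++ (List.range 8).map fun k =>
    (72 + k, [17] ++ mW k ++ [16] ++ ((mzW k).map fun x => iv x).reverse)

theorem relPairs_eq : relPairs.map (fun p => FreeGroup.lift (fun g => prodw fl18 (sw g)) (Ly.extra.getD p.1 1)) =
    relPairs.map (fun p => prodw fl18 p.2) := by decide +kernel

theorem relPairs_one {p : ℕ × List ℕ} (hp : p ∈ relPairs) : prodw gw p.2 = 1 := by
  obtain ⟨i, hi, rfl⟩ := List.getElem_of_mem hp
  have h := congrArg (fun l => toLy (l.getD i 1)) relPairs_eq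
  simp only [List.getD_eq_getElem?_getD, List.getElem?_map, List.getElem?_eq_getElem hi,
    Option.map_some, Option.getD_some] at h
  rw [toLy_prodw] at h
  rw [← h]
  have hs : ∀ r : FreeGroup Ly.Gen,
      toLy (FreeGroup.lift (fun g => prodw fl18 (sw g)) r) = toLy r := fun r => by
    have e : (toLy : FreeGroup Ly.Gen →* Cfsg.Spor.Ly).comp
        (FreeGroup.lift fun g => prodw fl18 (sw g)) = toLy := by
      refine FreeGroup.ext_hom _ _ fun g => ?_
      rw [MonoidHom.comp_apply, FreeGroup.lift_apply_of, toLy_prodw, toLy_of]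
    exact DFunLike.congr_fun e r
  rw [hs]
  by_cases hj : relPairs[i].1 < Ly.extra.length
  · rw [List.getElem?_eq_getElem hj, Option.getD_some]; exact extra_one (List.getElem_mem _)
  · rw [List.getElem?_eq_none (Nat.le_of_not_lt hj), Option.getD_none, map_one]

end CfsgLib.LyCert
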